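import Groth.Agent.Gor18.Flat
import Groth.Agent.CAlg5.FlatDescent
import Mathlib.RingTheory.Flat.EquationalCriterion
import Mathlib.RingTheory.GradedAlgebra.HomogeneousLocalization
import Mathlib.AlgebraicGeometry.ProjectiveSpectrum.StructureSheaf
import Mathlib.AlgebraicGeometry.ProjectiveSpectrum.Scheme

/-! Local rings of a projective spectrum whose primes avoid forms of consecutive degrees. -/

set_option autoImplicit false

universe u

open AlgebraicGeometry Pointwise HomogeneousLocalization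

namespace Groth.Agent.GorProj31

variable {A : Type u} [CommRing A] {𝒜 : ℕ → AddSubgroup A} [GradedRing 𝒜]

theorem mem_prime_of_closure {p : Ideal A} {i j k : ℕ}
    (h : 𝒜 k = AddSubgroup.closure ((𝒜 i : Set A) * (𝒜 j : Set A))) (hi : ∀ a ∈ 𝒜 i, a ∈ p) :
    ∀ a ∈ 𝒜 k, a ∈ p := by
  intro a ha
  rw [h] at ha
  refine (AddSubgroup.closure_le p.toAddSubgroup).2 ?_ ha
  rintro _ ⟨x, hx, y, hy, rfl⟩
  exact p.mul_mem_right y (hi x hx)

theorem exists_consecutive
    (hsharp : ∃ d₀ : ℕ, ∀ d : ℕ, d₀ ≤ d → ∀ n : ℕ, 1 ≤ n →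
      𝒜 ((n + 1) * d) = AddSubgroup.closure ((𝒜 d : Set A) * (𝒜 (n * d) : Set A)))
    (p : HomogeneousIdeal 𝒜) (hp : p.toIdeal.IsPrime) (hirr : ¬ HomogeneousIdeal.irrelevant 𝒜 ≤ p) :
    ∃ (d : ℕ) (u v : A), u ∈ 𝒜 (d + 1) ∧ u ∉ p.toIdeal ∧ v ∈ 𝒜 d ∧ v ∉ p.toIdeal := by
  obtain ⟨d₀, hd₀⟩ := hsharp
  have key : ∀ d, d₀ < d → ∃ a ∈ 𝒜 d, a ∉ p.toIdeal := by
    intro d hd
    by_contra hcon
    push Not at hcon
    apply hirr
    intro a ha
    classical
    rw [← DirectSum.sum_support_decompose 𝒜 a]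
    refine p.toIdeal.sum_mem fun i _ => ?_
    by_cases hi : i = 0
    · subst hi
      rw [show ((DirectSum.decompose 𝒜 a 0 : 𝒜 0) : A) = 0 from ha]
      exact p.toIdeal.zero_mem
    refine hp.mem_of_pow_mem d ?_
    have hmem := SetLike.pow_mem_graded d (DirectSum.decompose 𝒜 a i).2
    rw [smul_eq_mul] at hmem
    obtain ⟨n, rfl⟩ : ∃ n, i = n + 1 := ⟨i - 1, by omega⟩
    rcases Nat.eq_zero_or_pos n with rfl | hn
    · exact hcon _ (by simpa using hmem)
    · exact mem_prime_of_closure (hd₀ d hd.le n hn) hcon _ (by rwa [mul_comm] at hmem)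
  obtain ⟨v, hv, hv'⟩ := key (d₀ + 1) (by omega)
  obtain ⟨u, hu, hu'⟩ := key (d₀ + 2) (by omega)
  exact ⟨d₀ + 1, u, v, hu, hu', hv, hv'⟩

theorem flat_atPrime (p : Ideal A) [p.IsPrime] {d : ℕ} {u v : A} (hu : u ∈ 𝒜 (d + 1)) (hu' : u ∉ p)
    (hv : v ∈ 𝒜 d) (hv' : v ∉ p) :
    Module.Flat (AtPrime 𝒜 p) (Localization p.primeCompl) := by
  classical
  refine Module.Flat.of_forall_isTrivialRelation fun {l f x} hfx => ?_
  choose c hc using fun i => mk_surjective (f i)
  obtain ⟨⟨w, hw⟩, hint⟩ := IsLocalization.exist_integer_multiples_of_finite p.primeCompl x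
  choose a ha using hint
  have ha' : ∀ i, algebraMap A (Localization p.primeCompl) w * x i = algebraMap A _ (a i) := fun i =>
    ((ha i).trans (Algebra.smul_def (R := A) w (x i))).symm
  let den : Fin l → A := fun i => ((c i).den : A)
  have hden : ∀ i, den i ∈ p.primeCompl := fun i => (c i).den_mem
  let E := ∑ i, (c i).deg
  let num : Fin l → A := fun i => ((c i).num : A) * ∏ j ∈ Finset.univ.erase i, den j
  have hE : ∀ i, num i ∈ 𝒜 E := fun i => by
    show _ ∈ 𝒜 (∑ j, (c j).deg)
    rw [← Finset.add_sum_erase (Finset.univ : Finset (Fin l)) _ (Finset.mem_univ i)]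
    exact SetLike.mul_mem_graded (c i).num.2 (SetLike.prod_mem_graded 𝒜 (fun j => (c j).deg) den fun j _ => (c j).den.2)
  let D := ∏ j, den j
  have hD : D ∈ p.primeCompl := prod_mem fun i _ => hden i
  have hval : ∀ i, (f i).val * algebraMap A (Localization p.primeCompl) D = algebraMap A _ (num i) := fun i => by
    rw [← hc i, val_mk, Localization.mk_eq_mk', show D = den i * ∏ j ∈ Finset.univ.erase i, den j from
      (Finset.mul_prod_erase (Finset.univ : Finset (Fin l)) den (Finset.mem_univ i)).symm, map_mul, ← mul_assoc,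
      IsLocalization.mk'_spec' (S := Localization p.primeCompl) ((c i).num : A) ⟨den i, hden i⟩ |>.symm
        |>.trans (mul_comm _ _) |>.symm, ← map_mul]
  have hrel : algebraMap A (Localization p.primeCompl) (∑ i, num i * a i) = 0 := by
    have h := congrArg (· * (algebraMap A (Localization p.primeCompl) D * algebraMap A _ w)) hfx
    simp only [zero_mul, Finset.sum_mul] at h
    rw [← h, map_sum]
    refine Finset.sum_congr rfl fun i _ => ?_
    rw [map_mul, ← hval, ← ha', Algebra.smul_def, HomogeneousLocalization.algebraMap_apply]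
    ring
  obtain ⟨⟨s, hs⟩, hs0⟩ := (IsLocalization.map_eq_zero_iff p.primeCompl _ _).1 hrel
  have hsum : ∑ i, num i * (s * a i) = 0 := by
    rw [← hs0, Finset.mul_sum]
    exact Finset.sum_congr rfl fun i _ => by ring
  let pr := fun (n : ℕ) (z : A) => ((DirectSum.decompose 𝒜 z n : 𝒜 n) : A)
  have hcomp : ∀ n, ∑ i, num i * pr n (s * a i) = 0 := fun n => by
    have h := congrArg (fun z => GradedRing.proj 𝒜 (E + n) z) hsum
    simp only [map_sum, map_zero] at h
    rw [← h]
    refine Finset.sum_congr rfl fun i _ => ?_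
    rw [GradedRing.proj_apply, DirectSum.coe_decompose_mul_add_of_left_mem 𝒜 (hE i)]
  obtain ⟨N, hN⟩ : ∃ N, ∀ i, (DirectSum.decompose 𝒜 (s * a i)).support ⊆ Finset.range N := by
    refine ⟨(Finset.univ.biUnion fun i => (DirectSum.decompose 𝒜 (s * a i)).support).sup id + 1, fun i n hn => ?_⟩
    rw [Finset.mem_range, Nat.lt_succ_iff]
    exact Finset.le_sup (f := id) (Finset.mem_biUnion.2 ⟨i, Finset.mem_univ i, hn⟩)
  have huS : u ∈ p.primeCompl := hu'
  have hvS : v ∈ p.primeCompl := hv'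
  let b : Fin l → Fin N → AtPrime 𝒜 p := fun i n => mk
    { deg := (n : ℕ) * (d + 1)
      num := ⟨pr n (s * a i) * v ^ (n : ℕ), by
        rw [show (n : ℕ) * (d + 1) = (n : ℕ) + (n : ℕ) • d by rw [smul_eq_mul]; ring]
        exact SetLike.mul_mem_graded (DirectSum.decompose 𝒜 (s * a i) n).2 (SetLike.pow_mem_graded _ hv)⟩
      den := ⟨u ^ (n : ℕ), SetLike.pow_mem_graded _ hu⟩
      den_mem := pow_mem huS _ }
  let y : Fin N → Localization p.primeCompl := fun n =>
    IsLocalization.mk' _ (u ^ (n : ℕ)) (⟨v ^ (n : ℕ) * (s * w), mul_mem (pow_mem hvS _) (mul_mem hs hw)⟩ : p.primeCompl)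
  refine ⟨N, b, y, fun i => ?_, fun n => ?_⟩
  · have hsplit : s * a i = ∑ n ∈ Finset.range N, pr n (s * a i) := by
      conv_lhs => rw [← DirectSum.sum_support_decompose 𝒜 (s * a i)]
      exact Finset.sum_subset (hN i) fun n _ hn => by rw [DFinsupp.notMem_support_iff.1 hn]; rfl
    have hterm : ∀ n : Fin N, b i n • y n * algebraMap A (Localization p.primeCompl) (s * w) =
        algebraMap A _ (pr n (s * a i)) := fun n => by
      rw [Algebra.smul_def, HomogeneousLocalization.algebraMap_apply, val_mk, Localization.mk_eq_mk',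
        ← IsLocalization.mk'_mul, mul_comm, IsLocalization.mul_mk'_eq_mk'_of_mul, IsLocalization.mk'_eq_iff_eq_mul,
        ← map_mul]
      exact congrArg _ (by simp only [Submonoid.coe_mul]; ring)
    apply (IsLocalization.map_units (Localization p.primeCompl) (⟨s * w, mul_mem hs hw⟩ : p.primeCompl)).mul_right_cancel
    rw [Finset.sum_mul, Finset.sum_congr rfl (fun n _ => hterm n),
      Fin.sum_univ_eq_sum_range (fun n => algebraMap A (Localization p.primeCompl) (pr n (s * a i))) N,
      ← map_sum, ← hsplit, map_mul, map_mul, ← ha']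
    ring
  · apply val_injective
    rw [← HomogeneousLocalization.algebraMap_apply, ← HomogeneousLocalization.algebraMap_apply, map_sum, map_zero]
    simp only [HomogeneousLocalization.algebraMap_apply]
    apply ((IsLocalization.map_units (Localization p.primeCompl) (⟨D, hD⟩ : p.primeCompl)).mul
      (IsLocalization.map_units (Localization p.primeCompl) (⟨u ^ (n : ℕ), pow_mem huS _⟩ : p.primeCompl))).mul_right_cancel
    rw [Finset.sum_mul, zero_mul, ← map_zero (algebraMap A (Localization p.primeCompl)),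
      ← zero_mul (v ^ (n : ℕ)), ← hcomp n, Finset.sum_mul, map_sum]
    refine Finset.sum_congr rfl fun i _ => ?_
    show (f i * b i n).val * _ = _
    rw [val_mul, mul_mul_mul_comm, hval, val_mk, Localization.mk_eq_mk', mul_assoc (num i)]
    exact Eq.trans (congrArg (algebraMap A (Localization p.primeCompl) (num i) * ·) (IsLocalization.mk'_spec (M := p.primeCompl) (Localization p.primeCompl) _ _)) (map_mul _ _ _).symm

theorem gorenstein_atPrime [LocCoh.IsGorensteinRing A]
    (p : Ideal A) [p.IsPrime] {d : ℕ} {u v : A} (hu : u ∈ 𝒜 (d + 1)) (hu' : u ∉ p)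
    (hv : v ∈ 𝒜 d) (hv' : v ∉ p) :
    LocCoh.IsGorensteinLocalRing (AtPrime 𝒜 p) := by
  let B := AtPrime 𝒜 p
  have hB : LocCoh.IsGorensteinLocalRing (Localization.AtPrime p) :=
    LocCoh.IsGorensteinRing.isGorensteinLocalRing_localization p
  haveI : Module.Flat B (Localization.AtPrime p) := flat_atPrime p hu hu' hv hv'
  haveI : IsLocalHom (algebraMap B (Localization.AtPrime p)) :=
    ⟨fun b h => (isUnit_iff_isUnit_val 𝒜 p b).1 h⟩
  haveI : Module.FaithfullyFlat B (Localization.AtPrime p) := Module.FaithfullyFlat.of_flat_of_isLocalHom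
  haveI : IsNoetherianRing A := inferInstance
  haveI : IsNoetherianRing B := CAlg5.isNoetherianRing_of_faithfullyFlat B (Localization.AtPrime p)
  exact (Gor18.gor_flat_iff.1 hB).1

theorem gorenstein_stalk [LocCoh.IsGorensteinRing A]
    (hsharp : ∃ d₀ : ℕ, ∀ d : ℕ, d₀ ≤ d → ∀ n : ℕ, 1 ≤ n →
      𝒜 ((n + 1) * d) = AddSubgroup.closure ((𝒜 d : Set A) * (𝒜 (n * d) : Set A)))
    (x : Proj 𝒜) : LocCoh.IsGorensteinLocalRing ((Proj 𝒜).presheaf.stalk x) := by
  haveI := x.isPrime
  obtain ⟨d, u, v, hu, hu', hv, hv'⟩ :=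
    exists_consecutive hsharp x.asHomogeneousIdeal x.isPrime x.not_irrelevant_le
  exact (Gor18.gor_congr (Proj.stalkIso 𝒜 x).commRingCatIsoToRingEquiv).2
    (gorenstein_atPrime x.asHomogeneousIdeal.toIdeal hu hu' hv hv')

end Groth.Agent.GorProj31
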